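import Groth.Agent.Lib.BCCrit.StratumPush
import Groth.Agent.Lib.FrameFib8.Basic
import Groth.Agent.Lib.IntFree6.Basic
import Groth.Agent.Lib.CohPullLib.SecPull

/-! # Frames under pullback, pushforward and morphisms -/

set_option autoImplicit false
set_option linter.style.haveILetI false
set_option backward.isDefEq.respectTransparency false
set_option maxHeartbeats 1000000
universe u

open CategoryTheory CategoryTheory.Limits AlgebraicGeometry Opposite TopologicalSpace
open GrothLib.InvExt (mres fres mres_mres mres_smul)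
open GrothLib.FinCov (IsFrame)
open GrothLib.BCCoh (pullRes)

namespace GrothLib.DescLocus6

variable {X Y : Scheme.{u}}

/-- Being a frame is local. -/
theorem isFrame_of_local {M : X.Modules} {U : X.Opens} {n : ℕ} {e : Fin n → Γ(M, U)}
    (h : ∀ x, x ∈ U → ∃ (W : X.Opens) (hW : W ≤ U), x ∈ W ∧ IsFrame M W fun i => mres M hW (e i)) :
    IsFrame M U e := by
  refine Ref1.isFrame_of_stalk fun x hx => ?_
  obtain ⟨W, hW, hxW, he⟩ := h x hx
  have := Ref1.stalk_of_isFrame he x hxW
  refine (congrArg (fun p => Function.Bijective (p : (Fin n → X.presheaf.stalk x) → _))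
    (congrArg DFunLike.coe (?_ : Ref1.stalkComb _ x hxW = Ref1.stalkComb e x hx))).mp this
  unfold Ref1.stalkComb
  congr 1
  funext i
  rw [TopCat.Presheaf.germ_res_apply]

/-- Two frames differ by a matrix of unit determinant. -/
theorem isUnit_det_of_frames {M : X.Modules} {U : X.Opens} {n : ℕ} {e s : Fin n → Γ(M, U)}
    (he : IsFrame M U e) (hs : IsFrame M U s) (C : Matrix (Fin n) (Fin n) Γ(X, U))
    (hC : ∀ i, s i = ∑ j, C i j • e j) : IsUnit C.det := by
  have h1 := he U le_rfl
  have h2 := hs U le_rfl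
  have hres : ∀ (f : Fin n → Γ(M, U)) i, M.presheaf.map (homOfLE (le_refl U)).op (f i) = f i :=
    fun f i => InvExt.mres_self M (f i)
  simp only [hres] at h1 h2
  have hcomp : (fun c : Fin n → Γ(X, U) => ∑ i, c i • s i) =
      (fun c : Fin n → Γ(X, U) => ∑ i, c i • e i) ∘ fun c => Matrix.vecMul c C := by
    funext c
    simp only [Function.comp, Matrix.vecMul, dotProduct, hC, Finset.smul_sum, Finset.sum_smul, smul_smul]
    exact Finset.sum_comm
  rw [hcomp] at h2
  exact (Matrix.isUnit_iff_isUnit_det C).1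
    (Matrix.vecMul_surjective_iff_isUnit.1 (((h1.of_comp_iff' _).1 h2).2))

/-- Every family is expressed in a frame. -/
theorem exists_matrix {M : X.Modules} {U : X.Opens} {n m : ℕ} {e : Fin n → Γ(M, U)}
    (he : IsFrame M U e) (s : Fin m → Γ(M, U)) :
    ∃ C : Matrix (Fin m) (Fin n) Γ(X, U), ∀ i, s i = ∑ j, C i j • e j := by
  choose C hC using fun i => (he U le_rfl).2 (s i)
  refine ⟨C, fun i => (hC i).symm.trans ?_⟩
  exact Finset.sum_congr rfl fun j _ => congrArg _ (InvExt.mres_self M (e j))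

/-- Frames of the same module near a point have the same size. -/
theorem frame_rank_unique {M : X.Modules} {U U' : X.Opens} {n r : ℕ} {e : Fin n → Γ(M, U)}
    {e' : Fin r → Γ(M, U')} (he : IsFrame M U e) (he' : IsFrame M U' e') {x : X} (hx : x ∈ U)
    (hx' : x ∈ U') : n = r := by
  let a := (LinearEquiv.ofBijective _ (Ref1.stalk_of_isFrame he x hx)).trans
    (LinearEquiv.ofBijective _ (Ref1.stalk_of_isFrame he' x hx')).symm
  simpa using a.finrank_eq

/-- A frame is carried to a frame by an isomorphism. -/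
theorem isFrame_map {M N : X.Modules} (φ : M ⟶ N) [IsIso φ] {U : X.Opens} {n : ℕ} {e : Fin n → Γ(M, U)}
    (he : IsFrame M U e) : IsFrame N U fun i => φ.app U (e i) := by
  intro V h
  have h2 : Function.Bijective (φ.app V) :=
    (ConcreteCategory.isIso_iff_bijective _).1 (Scheme.Modules.Hom.isIso_iff_isIso_app.1 inferInstance V)
  have heq : (fun c : Fin n → Γ(X, V) => ∑ i, c i • N.presheaf.map (homOfLE h).op (φ.app U (e i))) =
      φ.app V ∘ fun c : Fin n → Γ(X, V) => ∑ i, c i • M.presheaf.map (homOfLE h).op (e i) := by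
    funext c
    simp only [Function.comp, map_sum, Scheme.Modules.Hom.app_smul, CohPullLib.app_res]
  rw [heq]
  exact h2.comp (he V h)

/-- A morphism carrying local frames to frames is an isomorphism. -/
theorem isIso_of_frames {M N : X.Modules} (φ : M ⟶ N)
    (h : ∀ x : X, ∃ (U : X.Opens) (n : ℕ) (e : Fin n → Γ(M, U)), x ∈ U ∧ IsFrame M U e ∧
      IsFrame N U fun i => φ.app U (e i)) : IsIso φ := by
  refine (OX.isIso_iff φ).2 fun x => (ConcreteCategory.isIso_iff_bijective _).2 ?_
  show Function.Bijective ((TopCat.Presheaf.stalkFunctor (C := Ab.{u}) x).map φ.mapPresheaf)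
  obtain ⟨U, n, e, hx, he, he'⟩ := h x
  have h1 := Ref1.stalk_of_isFrame he x hx
  have h2 := Ref1.stalk_of_isFrame he' x hx
  have heq : ∀ a, (TopCat.Presheaf.stalkFunctor (C := Ab.{u}) x).map φ.mapPresheaf (Ref1.stalkComb e x hx a) =
      Ref1.stalkComb (fun i => φ.app U (e i)) x hx a := fun a => by
    obtain ⟨T, hT, hxT, r, hr⟩ := Ref1.exists_repr_nhd hx a
    have ha : a = fun i => X.presheaf.germ T x hxT (r i) := funext fun i => (hr i).symm
    rw [ha, ← Ref1.germ_comb e hT hxT r, ← Ref1.germ_comb (fun i => φ.app U (e i)) hT hxT r,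
      TopCat.Presheaf.stalkFunctor_map_germ_apply]
    refine congrArg _ ?_
    show φ.app T _ = _
    simp only [map_sum, Scheme.Modules.Hom.app_smul, CohPullLib.app_res]
  refine (h1.of_comp_iff _).1 ?_
  exact (show _ ∘ ⇑(Ref1.stalkComb e x hx) = ⇑(Ref1.stalkComb _ x hx) from funext heq) ▸ h2

/-- The pullback of a frame is a frame. -/
theorem isFrame_pullRes (q : Y ⟶ X) (F : X.Modules) [F.IsQuasicoherent] {V : X.Opens} {n : ℕ}
    {e : Fin n → Γ(F, V)} (he : IsFrame F V e) {V' : Y.Opens} (h : V' ≤ q ⁻¹ᵁ V) :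
    IsFrame ((Scheme.Modules.pullback q).obj F) V' fun i => pullRes q F V V' h (e i) := by
  classical
  refine Ref1.isFrame_of_stalk fun y hy => ?_
  obtain ⟨U, hU, hqU, hUV⟩ := exists_isAffineOpen_mem_and_subset (show q y ∈ V from h hy)
  obtain ⟨U', hU', hyU', hle⟩ := exists_isAffineOpen_mem_and_subset (show y ∈ V' ⊓ q ⁻¹ᵁ U from ⟨hy, hqU⟩)
  let G := (Scheme.Modules.pullback q).obj F
  haveI : G.IsQuasicoherent := FittSheaf.isQuasicoherent_pullback q F
  have hle₁ : U' ≤ V' := fun z hz => (hle hz).1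
  have hle₂ : U' ≤ q ⁻¹ᵁ U := fun z hz => (hle hz).2
  letI : Algebra Γ(X, U) Γ(Y, U') := (q.appLE U U' hle₂).hom.toAlgebra
  letI : Module Γ(X, U) Γ(G, U') := Module.compHom _ (q.appLE U U' hle₂).hom
  haveI : IsScalarTower Γ(X, U) Γ(Y, U') Γ(G, U') := IsScalarTower.of_algebraMap_smul fun _ _ => rfl
  obtain ⟨p, hp, hps⟩ := BCCoh.isBaseChange_pullRes q F hU hU' hle₂
  let b' := hp.basis (he.basis U hUV)
  letI := Y.presheaf.algebra_section_stalk ⟨y, hyU'⟩
  haveI := FlatFP.isLocalization_stalk_primeAt hU' hyU'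
  letI : Module Γ(Y, U') (G.presheaf.stalk y) := Module.compHom _ (Y.presheaf.germ U' y hyU').hom
  haveI : IsScalarTower Γ(Y, U') (Y.presheaf.stalk y) (G.presheaf.stalk y) :=
    IsScalarTower.of_algebraMap_smul fun _ _ => rfl
  obtain ⟨g, hg, hgz⟩ := FlatFP.isLocalizedModule_germ G hU' hyU'
  haveI := hg
  let b'' := (IsLocalizedModule.isBaseChange (WeakAss.primeAt y hyU').primeCompl (Y.presheaf.stalk y) g).basis b'
  have hb : ∀ i, b'' i = G.presheaf.germ V' y hy (pullRes q F V V' h (e i)) := fun i => by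
    rw [IsBaseChange.basis_apply, hgz, IsBaseChange.basis_apply, hps, FinCov.IsFrame.basis_apply,
      ← BCCoh.pullRes_res q F hUV h hle₂ hle₁, TopCat.Presheaf.germ_res_apply]
  have := b''.equivFun.symm.bijective
  refine (congrArg Function.Bijective (funext fun a => ?_)).mp this
  rw [Module.Basis.equivFun_symm_apply, Ref1.stalkComb, Fintype.linearCombination_apply]
  exact Finset.sum_congr rfl fun i _ => by rw [hb]

/-- A frame over an inverse image is a frame of the direct image when `O = p_* O`. -/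
theorem isFrame_push (p : Y ⟶ X) (hp : ∀ W : X.Opens, Function.Bijective (p.app W)) {M : Y.Modules}
    {V : X.Opens} {n : ℕ} {e : Fin n → Γ(M, p ⁻¹ᵁ V)} (he : IsFrame M (p ⁻¹ᵁ V) e) :
    IsFrame ((Scheme.Modules.pushforward p).obj M) V e := by
  intro W hW
  have h1 : Function.Bijective fun (c : Fin n → Γ(X, W)) i => p.app W (c i) :=
    ⟨fun a b h => funext fun i => (hp W).1 (congrFun h i), fun b =>
      ⟨fun i => ((hp W).2 (b i)).choose, funext fun i => ((hp W).2 (b i)).choose_spec⟩⟩
  exact (he (p ⁻¹ᵁ W) (p.preimage_mono hW)).comp h1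

end GrothLib.DescLocus6
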