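import Groth.Agent.Lib.DescLocus6.Frames

/-! # Modules which are free over inverse images of small opens of the base -/

set_option autoImplicit false
set_option linter.style.haveILetI false
set_option backward.isDefEq.respectTransparency false
set_option maxHeartbeats 1000000
universe u

open CategoryTheory CategoryTheory.Limits AlgebraicGeometry Opposite TopologicalSpace
open GrothLib.InvExt (mres fres mres_mres mres_smul)
open GrothLib.FinCov (IsFrame)
open GrothLib.BCCoh (pullRes)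

namespace GrothLib.DescLocus6

variable {X Y Y' T T' : Scheme.{u}}

/-- Near every point of the base the module has a frame of size `r` over the whole inverse image. -/
def FrameAt (p : Y ⟶ T) (M : Y.Modules) (r : ℕ) (t : T) : Prop :=
  ∃ (V : T.Opens) (e : Fin r → Γ(M, p ⁻¹ᵁ V)), t ∈ V ∧ IsFrame M (p ⁻¹ᵁ V) e

theorem isOpen_frameAt (p : Y ⟶ T) (M : Y.Modules) (r : ℕ) : IsOpen {t | FrameAt p M r t} :=
  isOpen_iff_forall_mem_open.2 fun _ ⟨V, e, ht, he⟩ => ⟨V, fun _ hz => ⟨V, e, hz, he⟩, V.2, ht⟩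

theorem FrameAt.of_iso {p : Y ⟶ T} {M N : Y.Modules} (φ : M ≅ N) {r : ℕ} {t : T} (h : FrameAt p M r t) :
    FrameAt p N r t :=
  let ⟨V, _, ht, he⟩ := h
  ⟨V, _, ht, isFrame_map φ.hom he⟩

theorem sqLE' {p : Y ⟶ T} {p' : Y' ⟶ T'} {k : T' ⟶ T} {v : Y' ⟶ Y} (w : v ≫ p = p' ≫ k) (V : T.Opens) :
    p' ⁻¹ᵁ (k ⁻¹ᵁ V) ≤ v ⁻¹ᵁ (p ⁻¹ᵁ V) := fun x hx => by
  show p (v x) ∈ V
  rw [← Scheme.Hom.comp_apply, w]
  exact hx

theorem FrameAt.pullback {p : Y ⟶ T} {p' : Y' ⟶ T'} {k : T' ⟶ T} {v : Y' ⟶ Y} (w : v ≫ p = p' ≫ k)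
    {M : Y.Modules} [M.IsQuasicoherent] {r : ℕ} {t' : T'} (h : FrameAt p M r (k t')) :
    FrameAt p' ((Scheme.Modules.pullback v).obj M) r t' :=
  let ⟨V, _, ht, he⟩ := h
  ⟨k ⁻¹ᵁ V, _, ht, isFrame_pullRes v M he (sqLE' w V)⟩

/-- A module coming from the base has frames over inverse images. -/
theorem frameAt_of_base (p : Y ⟶ T) {M : Y.Modules} {N : T.Modules} (hN : FlatMod.IsFinLocFree N)
    (i : (Scheme.Modules.pullback p).obj N ≅ M) (t : T) : ∃ r, FrameAt p M r t := by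
  obtain ⟨V, n, e, ht, he⟩ := FinCov.exists_frame_nhd hN t
  haveI : N.IsQuasicoherent := Euler.isQuasicoherent_of_isFinLocFree hN
  exact ⟨n, V, _, ht, isFrame_map i.hom (isFrame_pullRes p N he le_rfl)⟩

theorem counit_pullRes (p : Y ⟶ T) (M : Y.Modules) (V : T.Opens) (s : Γ(M, p ⁻¹ᵁ V)) :
    ((Scheme.Modules.pullbackPushforwardAdjunction p).counit.app M).app (p ⁻¹ᵁ V)
      (pullRes p ((Scheme.Modules.pushforward p).obj M) V (p ⁻¹ᵁ V) le_rfl s) = s := by
  rw [CohPullLib.pullRes_def]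
  refine (CohPullLib.app_res ((Scheme.Modules.pullbackPushforwardAdjunction p).counit.app M) le_rfl _).trans ?_
  refine (InvExt.mres_self M _).trans ?_
  exact congrArg (fun t => (Scheme.Modules.Hom.app t V) s)
    ((Scheme.Modules.pullbackPushforwardAdjunction p).right_triangle_components M)

/-- A module with frames over inverse images comes from the base when `O = p_* O`. -/
theorem exists_base_of_frameAt (p : Y ⟶ T) [QuasiCompact p] [QuasiSeparated p]
    (hp : ∀ W : T.Opens, Function.Bijective (p.app W)) (M : Y.Modules) [M.IsQuasicoherent]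
    (h : ∀ t, ∃ r, FrameAt p M r t) :
    ∃ N : T.Modules, FlatMod.IsFinLocFree N ∧ Nonempty ((Scheme.Modules.pullback p).obj N ≅ M) := by
  let N := (Scheme.Modules.pushforward p).obj M
  haveI : N.IsQuasicoherent := QCoh.isQuasicoherent_pushforward p M
  refine ⟨N, fun t => ?_, ?_⟩
  · obtain ⟨r, V, e, ht, he⟩ := h t
    exact ⟨V, r, ht, FinCov.exists_iso_of_frame (isFrame_push p hp he)⟩
  · haveI : IsIso ((Scheme.Modules.pullbackPushforwardAdjunction p).counit.app M) := by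
      refine isIso_of_frames _ fun y => ?_
      obtain ⟨r, V, e, ht, he⟩ := h (p y)
      refine ⟨p ⁻¹ᵁ V, r, _, ht, isFrame_pullRes p N (isFrame_push p hp he) le_rfl, ?_⟩
      refine cast (congrArg (IsFrame M (p ⁻¹ᵁ V)) (funext fun i => (counit_pullRes p M V (e i)).symm)) he
    exact ⟨asIso ((Scheme.Modules.pullbackPushforwardAdjunction p).counit.app M)⟩

/-- Frames over inverse images give base change in degree zero. -/
theorem isIso_bc0_of_frameAt {p : Y ⟶ T} [QuasiCompact p] [QuasiSeparated p] {p' : Y' ⟶ T'} {k : T' ⟶ T}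
    {v : Y' ⟶ Y} (w : v ≫ p = p' ≫ k) (hp : ∀ W : T.Opens, Function.Bijective (p.app W))
    (hp' : ∀ W : T'.Opens, Function.Bijective (p'.app W)) (M : Y.Modules) [M.IsQuasicoherent]
    (h : ∀ t, ∃ r, FrameAt p M r t) : IsIso (CohBC.bc0 p k p' v w M) := by
  let N := (Scheme.Modules.pushforward p).obj M
  haveI : N.IsQuasicoherent := QCoh.isQuasicoherent_pushforward p M
  refine isIso_of_frames _ fun t' => ?_
  obtain ⟨r, V, e, ht, he⟩ := h (k t')
  refine ⟨k ⁻¹ᵁ V, r, _, ht, isFrame_pullRes k N (isFrame_push p hp he) le_rfl, ?_⟩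
  refine (funext fun i => BCCrit.bc0_pullRes w M V (k ⁻¹ᵁ V) le_rfl (sqLE' w V) (e i)) ▸ ?_
  exact isFrame_push p' hp' (isFrame_pullRes v M he (sqLE' w V))

theorem pullRes_sum (v : Y' ⟶ Y) (M : Y.Modules) (U : Y.Opens) (U' : Y'.Opens) (e : U' ≤ v ⁻¹ᵁ U)
    {n : ℕ} (c : Fin n → Γ(Y, U)) (d : Fin n → Γ(M, U)) :
    pullRes v M U U' e (∑ j, c j • d j) = ∑ j, v.appLE U U' e (c j) • pullRes v M U U' e (d j) := by
  refine (map_sum (AddMonoidHom.mk' (pullRes v M U U' e) (BCCoh.pullRes_add v M U U' e)) _ _).trans ?_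
  exact Finset.sum_congr rfl fun j _ => BCCoh.pullRes_smul v M U U' e _ _

/-- **Frames over inverse images descend to the family**, when the direct image is locally free and
commutes with base change. -/
theorem frameAt_of_pullback {p : Y ⟶ T} [IsProper p] {p' : Y' ⟶ T'} {k : T' ⟶ T} {v : Y' ⟶ Y}
    (hsq : IsPullback v p' p k) (hp' : ∀ W : T'.Opens, Function.Bijective (p'.app W))
    {M : Y.Modules} [M.IsQuasicoherent] (hM : FlatMod.IsFinLocFree M) {r : ℕ}
    (hN : FlatMod.IsFinLocFreeOfRank r ((Scheme.Modules.pushforward p).obj M))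
    [IsIso (CohBC.bc0 p k p' v hsq.w M)] {t : T'}
    (h : FrameAt p' ((Scheme.Modules.pullback v).obj M) r t) : FrameAt p M r (k t) := by
  classical
  let M' := (Scheme.Modules.pullback v).obj M
  obtain ⟨V', e, htV', he⟩ := h
  obtain ⟨V, σ, hzV, hσ⟩ := FinCov.exists_frame_nhd_of_rank hN (k t)
  haveI : ((Scheme.Modules.pushforward p).obj M).IsQuasicoherent := QCoh.isQuasicoherent_pushforward p M
  let V₂ := V' ⊓ k ⁻¹ᵁ V
  have hV₂ : p' ⁻¹ᵁ V₂ ≤ v ⁻¹ᵁ (p ⁻¹ᵁ V) := (p'.preimage_mono inf_le_right).trans (sqLE' hsq.w V)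
  let s : Fin r → Γ(M', p' ⁻¹ᵁ V₂) := fun i => pullRes v M (p ⁻¹ᵁ V) (p' ⁻¹ᵁ V₂) hV₂ (σ i)
  let e' : Fin r → Γ(M', p' ⁻¹ᵁ V₂) := fun i => mres M' (p'.preimage_mono inf_le_left) (e i)
  have he' : IsFrame M' (p' ⁻¹ᵁ V₂) e' := IntFree6.isFrame_mres he _
  have hsP : IsFrame ((Scheme.Modules.pushforward p').obj M') V₂ s := by
    have := isFrame_map (CohBC.bc0 p k p' v hsq.w M) (isFrame_pullRes k _ hσ (inf_le_right : V₂ ≤ _))
    exact cast (congrArg (IsFrame ((Scheme.Modules.pushforward p').obj M') V₂)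
      (funext fun i => BCCrit.bc0_pullRes hsq.w M V V₂ inf_le_right hV₂ (σ i))) this
  obtain ⟨C, hC⟩ := exists_matrix (isFrame_push p' hp' he') s
  have hCu := isUnit_det_of_frames (isFrame_push p' hp' he') hsP C hC
  have hs : IsFrame M' (p' ⁻¹ᵁ V₂) s := by
    refine FrameFib8.isFrame_of_isUnit_det le_rfl he' (C.map (p'.app V₂).hom) ?_ fun i => ?_
    · rw [← RingHom.mapMatrix_apply, ← RingHom.map_det]
      exact hCu.map _
    · refine (hC i).trans (Finset.sum_congr rfl fun j _ => ?_)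
      rw [InvExt.mres_self]
      rfl
  -- the sections form a frame near every point of the fibre
  have hpt : ∀ x : Y, p x = k t → ∃ (W : Y.Opens) (hW : W ≤ p ⁻¹ᵁ V), x ∈ W ∧
      IsFrame M W fun i => mres M hW (σ i) := by
    intro x hx
    obtain ⟨q, hq₁, hq₂⟩ := Scheme.Pullback.exists_preimage_pullback (f := p) (g := k) x t hx
    let x' := hsq.isoPullback.inv q
    have hv : v x' = x := by
      rw [← Scheme.Hom.comp_apply, hsq.isoPullback_inv_fst]; exact hq₁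
    have hp'x : p' x' = t := by
      rw [← Scheme.Hom.comp_apply, hsq.isoPullback_inv_snd]; exact hq₂
    obtain ⟨U, n, d, hxU, hd⟩ := FinCov.exists_frame_nhd hM x
    have hxV : x ∈ p ⁻¹ᵁ V := by show p x ∈ V; rw [hx]; exact hzV
    let U₁ := U ⊓ p ⁻¹ᵁ V
    have hx'V₂ : x' ∈ p' ⁻¹ᵁ V₂ := by show p' x' ∈ V₂; rw [hp'x]; exact ⟨htV', hzV⟩
    have hx'U₁ : x' ∈ v ⁻¹ᵁ U₁ := by show v x' ∈ U₁; rw [hv]; exact ⟨hxU, hxV⟩
    let d₁ : Fin n → Γ(M, U₁) := fun i => mres M inf_le_left (d i)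
    have hd₁ : IsFrame M U₁ d₁ := IntFree6.isFrame_mres hd _
    obtain rfl : n = r := frame_rank_unique (isFrame_pullRes v M hd₁ le_rfl) hs hx'U₁ hx'V₂
    obtain ⟨C₂, hC₂⟩ := exists_matrix hd₁ fun i => mres M (inf_le_right : U₁ ≤ _) (σ i)
    let W' := v ⁻¹ᵁ U₁ ⊓ p' ⁻¹ᵁ V₂
    have hW' : W' ≤ v ⁻¹ᵁ U₁ := inf_le_left
    have hdW : IsFrame M' W' fun i => pullRes v M U₁ W' hW' (d₁ i) := isFrame_pullRes v M hd₁ hW'
    have hsW : IsFrame M' W' fun i => mres M' inf_le_right (s i) := IntFree6.isFrame_mres hs _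
    have hu : IsUnit (C₂.map (v.appLE U₁ W' hW').hom).det := by
      refine isUnit_det_of_frames hdW hsW _ fun i => ?_
      refine (BCCoh.pullRes_res v M (inf_le_right : U₁ ≤ p ⁻¹ᵁ V) hV₂ hW' inf_le_right (σ i)).trans ?_
      exact (congrArg _ (hC₂ i)).trans (pullRes_sum v M U₁ W' hW' _ _)
    rw [← RingHom.mapMatrix_apply, ← RingHom.map_det] at hu
    have hxdet : x ∈ Y.basicOpen C₂.det := by
      have hmem : x' ∈ Y'.basicOpen (v.appLE U₁ W' hW' C₂.det) := by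
        rw [Scheme.basicOpen_of_isUnit _ hu]
        exact ⟨hx'U₁, hx'V₂⟩
      rw [Scheme.basicOpen_appLE] at hmem
      exact hv ▸ hmem.2
    have hB : Y.basicOpen C₂.det ≤ U₁ := Y.basicOpen_le _
    refine ⟨Y.basicOpen C₂.det, hB.trans inf_le_right, hxdet,
      FrameFib8.isFrame_of_isUnit_det hB hd₁ (C₂.map (Y.presheaf.map (homOfLE hB).op).hom) ?_ fun i => ?_⟩
    · rw [← RingHom.mapMatrix_apply, ← RingHom.map_det]
      exact InvExt.isUnit_res_of_le_basicOpen (Y.basicOpen_le _) C₂.det le_rfl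
    · refine (mres_mres M _ hB (σ i)).symm.trans ((congrArg (mres M hB) (hC₂ i)).trans ?_)
      simp only [map_sum, mres_smul]
      rfl
  let O : Y.Opens := ⨆ (W : {W : Y.Opens // ∃ hW : W ≤ p ⁻¹ᵁ V, IsFrame M W fun i => mres M hW (σ i)}), W.1
  let V₁ : T.Opens := V ⊓ ⟨(p '' (O : Set Y)ᶜ)ᶜ, (p.isClosedMap _ O.2.isClosed_compl).isOpen_compl⟩
  refine ⟨V₁, fun i => mres M (p.preimage_mono inf_le_left) (σ i), ⟨hzV, ?_⟩, isFrame_of_local fun x hx => ?_⟩
  · rintro ⟨x, hxO, hxz⟩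
    obtain ⟨W, hW, hxW, hfr⟩ := hpt x hxz
    exact hxO (Opens.mem_iSup.2 ⟨⟨W, hW, hfr⟩, hxW⟩)
  · obtain ⟨⟨W, hW, hfr⟩, hxW⟩ := Opens.mem_iSup.1 (show x ∈ O from by
      by_contra h
      exact hx.2 ⟨x, h, rfl⟩)
    refine ⟨W ⊓ p ⁻¹ᵁ V₁, inf_le_right, ⟨hxW, hx⟩, ?_⟩
    simp only [mres_mres]
    have := IntFree6.isFrame_mres hfr (inf_le_left : W ⊓ p ⁻¹ᵁ V₁ ≤ W)
    simp only [mres_mres] at this
    exact this

end GrothLib.DescLocus6
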