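import Groth.Agent.Lib.DescLocus6.Family

/-! # The locus where a finite locally free module comes from the base -/

set_option autoImplicit false
set_option linter.style.haveILetI false
set_option backward.isDefEq.respectTransparency false
set_option maxHeartbeats 1000000
universe u

noncomputable section

open CategoryTheory CategoryTheory.Limits AlgebraicGeometry Opposite TopologicalSpace

namespace GrothLib.DescLocus6

variable {X S : Scheme.{u}}

theorem desc_iff (f : X ⟶ S) [IsProper f]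
    (hO : ∀ (T : Scheme.{u}) (g : T ⟶ S) (U : T.Opens), IsIso ((pullback.snd f g).app U))
    (E : X.Modules) (hE : FlatMod.IsFinLocFree E) {T : Scheme.{u}} (u : T ⟶ S) :
    (∃ N : T.Modules, FlatMod.IsFinLocFree N ∧
      Nonempty ((Scheme.Modules.pullback (pullback.snd f u)).obj N ≅ fam f E u)) ↔ Desc f E u := by
  haveI : (fam f E u).IsQuasicoherent := Euler.isQuasicoherent_of_isFinLocFree (OX.isFinLocFree_pullback _ hE)
  exact ⟨fun ⟨N, hN, ⟨i⟩⟩ t => frameAt_of_base _ hN i t,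
    fun h => exists_base_of_frameAt _ (bijective_app_snd f hO u) _ h⟩

/-- The locus where a finite locally free module descends is an immersion of finite presentation. -/
theorem exists_descent_locus (f : X ⟶ S) [Flat f] [IsProper f] [LocallyOfFinitePresentation f]
    (hO : ∀ (T : Scheme.{u}) (g : T ⟶ S) (U : T.Opens), IsIso ((pullback.snd f g).app U))
    (E : X.Modules) (hE : FlatMod.IsFinLocFree E) :
    ∃ (Z : Scheme.{u}) (j : Z ⟶ S), IsImmersion j ∧ LocallyOfFinitePresentation j ∧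
      ∀ (T : Scheme.{u}) (g : T ⟶ S), (∃ g' : T ⟶ Z, g' ≫ j = g) ↔
        ∃ N : T.Modules, FlatMod.IsFinLocFree N ∧
          Nonempty ((Scheme.Modules.pullback (pullback.snd f g)).obj N ≅
            (Scheme.Modules.pullback (pullback.fst f g)).obj E) := by
  choose W jW himm hfp hfr huniv using fun r : ULift.{u} ℕ => exists_rank_piece f hO E hE r.down
  let Sr : ULift.{u} ℕ → S.Opens := fun r => ⟨f '' rankSet E r.down, f.isOpenMap _ (rankSet E r.down).2⟩
  have hSr : iSup Sr = ⊤ := by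
    refine top_le_iff.1 fun s _ => ?_
    obtain ⟨x, hx⟩ := nonempty_fibre f hO s
    obtain ⟨r, hr⟩ := exists_mem_rankSet hE x
    exact Opens.mem_iSup.2 ⟨⟨r⟩, x, hr, hx⟩
  have hdisj : ∀ {s : S} {r r' : ULift.{u} ℕ}, s ∈ Sr r → s ∈ Sr r' → r = r' := by
    rintro s ⟨r⟩ ⟨r'⟩ ⟨x, hx, rfl⟩ ⟨y, hy, hxy⟩
    exact congrArg ULift.up (rankSet_fibre f hO hE hxy.symm hx hy)
  have hmem : ∀ {T : Scheme.{u}} (u : T ⟶ S) {r : ℕ} {t : T},
      FrameAt (pullback.snd f u) (fam f E u) r t → u t ∈ Sr ⟨r⟩ := fun u r t h => by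
    obtain ⟨x, hx, hxr⟩ := frameAt_rank f hO hE u h
    exact ⟨x, hxr, hx⟩
  have hjW : ∀ r w, jW r w ∈ Sr r := fun r w => hmem (jW r) (hfr r w)
  let j : (∐ W) ⟶ S := Sigma.desc jW
  have hι : ∀ r, Sigma.ι W r ≫ j = jW r := fun r => Sigma.ι_desc _ _
  haveI : IsImmersion j := by
    refine IsZariskiLocalAtTarget.of_iSup_eq_top (P := @IsImmersion) Sr hSr fun r => ?_
    have hle : Set.range (Sigma.ι W r) ⊆ Set.range (j ⁻¹ᵁ Sr r).ι := by
      rw [Scheme.Opens.range_ι]
      rintro _ ⟨w, rfl⟩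
      show j (Sigma.ι W r w) ∈ Sr r
      rw [← Scheme.Hom.comp_apply, hι]
      exact hjW r w
    let e := IsOpenImmersion.lift (j ⁻¹ᵁ Sr r).ι (Sigma.ι W r) hle
    have he : e ≫ (j ⁻¹ᵁ Sr r).ι = Sigma.ι W r := IsOpenImmersion.lift_fac _ _ _
    haveI : IsOpenImmersion e := by
      haveI : IsOpenImmersion (e ≫ (j ⁻¹ᵁ Sr r).ι) := he ▸ inferInstance
      exact IsOpenImmersion.of_comp e (j ⁻¹ᵁ Sr r).ι
    haveI : IsIso e := by
      haveI : Surjective e := ⟨fun z => by
        obtain ⟨i, w, hw⟩ : ∃ (i : ULift.{u} ℕ) (w : W i), Sigma.ι W i w = (j ⁻¹ᵁ Sr r).ι z :=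
          (sigmaOpenCover W).exists_eq _
        have hz : j ((j ⁻¹ᵁ Sr r).ι z) ∈ Sr r := z.2
        rw [← hw] at hz
        obtain rfl : i = r := hdisj
          (show (Sigma.ι W i ≫ j) w ∈ Sr i by rw [hι]; exact hjW i w) hz
        refine ⟨w, (j ⁻¹ᵁ Sr i).ι.isOpenEmbedding.injective ?_⟩
        rw [← Scheme.Hom.comp_apply, he]
        exact hw⟩
      haveI : Epi e.base := (TopCat.epi_iff_surjective _).2 e.surjective
      exact (isIso_iff_isOpenImmersion_and_epi_base e).2 ⟨inferInstance, inferInstance⟩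
    have : IsImmersion ((e ≫ (j ∣_ Sr r)) ≫ (Sr r).ι) := by
      rw [Category.assoc, morphismRestrict_ι, ← Category.assoc, he, hι]
      exact himm r
    have := IsImmersion.of_comp (e ≫ (j ∣_ Sr r)) (Sr r).ι
    exact (MorphismProperty.cancel_left_of_respectsIso @IsImmersion e (j ∣_ Sr r)).1 this
  refine ⟨_, j, inferInstance, IsZariskiLocalAtSource.sigmaDesc fun r => hfp r, fun T g => ?_⟩
  rw [desc_iff f hO E hE g]
  constructor
  · rintro ⟨g', rfl⟩ t
    obtain ⟨r, w, hw⟩ : ∃ (i : ULift.{u} ℕ) (w : W i), Sigma.ι W i w = g' t := (sigmaOpenCover W).exists_eq _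
    let U : T.Opens := g' ⁻¹ᵁ (Sigma.ι W r).opensRange
    have ht : t ∈ U := ⟨w, hw⟩
    let k := IsOpenImmersion.lift (Sigma.ι W r) (U.ι ≫ g') (by
      rintro _ ⟨z, rfl⟩
      exact z.2)
    have hk : U.ι ≫ g' ≫ j = k ≫ jW r := by
      rw [← hι r, ← Category.assoc, ← Category.assoc, IsOpenImmersion.lift_fac]
    have h := frameAt_fam_comp f hE k (jW r) (hfr r (k ⟨t, ht⟩))
    rw [← hk] at h
    exact ⟨r.down, frameAt_fam_of_open f U.ι (g' ≫ j) h⟩
  · intro h
    let U : ULift.{u} ℕ → T.Opens := fun r => g ⁻¹ᵁ Sr r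
    have hU : IsOpenCover U := by
      refine top_le_iff.1 fun t _ => ?_
      obtain ⟨r, hr⟩ := h t
      exact Opens.mem_iSup.2 ⟨⟨r⟩, hmem g hr⟩
    have hloc : ∀ r, ∃ k : (U r).toScheme ⟶ W r, k ≫ jW r = (U r).ι ≫ g := fun r =>
      huniv r _ _ fun z => by
        obtain ⟨n, hn⟩ := h ((U r).ι z)
        obtain rfl : (⟨n⟩ : ULift.{u} ℕ) = r := hdisj (hmem g hn) z.2
        exact frameAt_fam_comp f hE (U ⟨n⟩).ι g hn
    choose k hk using hloc
    let 𝒰 := T.openCoverOfIsOpenCover U hU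
    refine ⟨𝒰.glueMorphisms (fun r => k r ≫ Sigma.ι W r) fun x y => ?_, 𝒰.hom_ext _ _ fun r => ?_⟩
    · rw [← cancel_mono j]
      simp only [Category.assoc, hι, hk]
      exact pullback.condition_assoc _
    · rw [← Category.assoc, Scheme.Cover.ι_glueMorphisms, Category.assoc, hι, hk]
      rfl

end GrothLib.DescLocus6
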